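import Cfsg.Agent.H99.CY.CntK
import Cfsg.Agent.H666.CY.PslFl

/-!
# S4829, `PSL_n(q)`, `d = ord_p(q) ≥ 2`: the numbers of fixed `k`-spaces, on `Fl F n 0 k` (helper99)

`N k a` is the number of the `a`-fixed elements of `Fl F n 0 k`, for `a : A0 F n` centralizing a Sylow `p`-subgroup:
`cnt_res` (`k = n % d`: 1), `cnt_succ` (`k = n % d + 1 < d`: 0), `cnt_blk` (`n % d + 1 = d`: `k = d, 2 d - 1, 2 d`).
-/

set_option autoImplicit false
set_option linter.unusedSectionVars false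

open Matrix Module Subgroup

namespace Cfsg.Agent.H99.CY

open Cfsg.Agent.H932.BR (Om) 
open Cfsg.Agent.H829.BR
open Cfsg.Agent.H666.CY

universe u

variable {p : ℕ} [hp : Fact p.Prime] {F : Type u} [Field F] {n : ℕ}

/-- the fixed elements of `Fl F n 0 k` -/
theorem card_fl_zero [Finite F] (k : ℕ) (a : A0 F n) : Nat.card (MulAction.fixedBy (Fl F n 0 k) a) =
    Nat.card {W : Om F n k // latf (a : MulAut (ProjectiveSpecialLinearGroup (Fin n) F)) W.1 = W.1} := by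
  have hbot : ∀ W : Om F n 0, W.1 = ⊥ := fun W => Submodule.finrank_eq_zero.1 W.2
  refine Nat.card_congr ⟨fun x => ⟨x.1.1.2, ?_⟩, fun W => ⟨⟨(⟨⊥, finrank_bot F _⟩, W.1), bot_le⟩, ?_⟩, fun x => ?_, fun W => rfl⟩
  · have h1 := congrArg (fun y : Fl F n 0 k => y.1.2.1) x.2
    exact h1
  · apply Subtype.ext
    refine Prod.ext ?_ ?_
    · apply Subtype.ext
      rw [a0_smul_fst]
      rw [hbot]
    · apply Subtype.ext
      exact W.2
  · apply Subtype.ext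
    apply Subtype.ext
    refine Prod.ext ?_ rfl
    apply Subtype.ext
    exact (hbot x.1.1.1).symm

variable [Fintype F]

local notation "𝔡" => orderOf (Fintype.card F : ZMod p)

theorem cnt_res (hn : 2 ≤ n) (hpF : (p : F) ≠ 0) (hq : ¬ p ∣ Fintype.card F - 1)
    (Q : Sylow p (ProjectiveSpecialLinearGroup (Fin n) F)) (a : A0 F n)
    (hc : ∀ x ∈ Q, (a : MulAut (ProjectiveSpecialLinearGroup (Fin n) F)) x = x) :
    (Nat.card (MulAction.fixedBy (Fl F n 0 (n % 𝔡)) a) : ZMod p) = 1 := by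
  rw [card_fl_zero, card_latf hn hpF hq (Or.inr (by rw [Nat.mod_mod])) Q a.2 hc, NN_low_eq hpF hq]

theorem cnt_succ (hn : 2 ≤ n) (hpF : (p : F) ≠ 0) (hq : ¬ p ∣ Fintype.card F - 1) (hr : n % 𝔡 + 1 < 𝔡) (hdn : 𝔡 ≤ n)
    (Q : Sylow p (ProjectiveSpecialLinearGroup (Fin n) F)) (a : A0 F n)
    (hc : ∀ x ∈ Q, (a : MulAut (ProjectiveSpecialLinearGroup (Fin n) F)) x = x) :
    (Nat.card (MulAction.fixedBy (Fl F n 0 (n % 𝔡 + 1)) a) : ZMod p) = 0 := by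
  rw [card_fl_zero]
  exact (vals_low hn hpF hq hr hdn Q a.2 hc).2

theorem cnt_blk (hp2 : p ≠ 2) (hn : 2 ≤ n) (hpF : (p : F) ≠ 0) (hq : ¬ p ∣ Fintype.card F - 1) (hr : n % 𝔡 + 1 = 𝔡)
    (ha1 : 1 ≤ n / 𝔡) (Q : Sylow p (ProjectiveSpecialLinearGroup (Fin n) F)) (a : A0 F n)
    (hc : ∀ x ∈ Q, (a : MulAut (ProjectiveSpecialLinearGroup (Fin n) F)) x = x) :
    (Nat.card (MulAction.fixedBy (Fl F n 0 𝔡) a) : ZMod p) = (n / 𝔡 : ℕ) ∧
    (Nat.card (MulAction.fixedBy (Fl F n 0 (2 * 𝔡 - 1)) a) : ZMod p) = (n / 𝔡 : ℕ) ∧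
    (Nat.card (MulAction.fixedBy (Fl F n 0 (2 * 𝔡)) a) : ZMod p) = ((n / 𝔡).choose 2 : ℕ) := by
  rw [card_fl_zero, card_fl_zero, card_fl_zero]
  exact (vals hp2 hn hpF hq hr ha1 Q a.2 hc).2

/-- one point -/
theorem cnt_zero [Finite F] (a : A0 F n) : Nat.card (MulAction.fixedBy (Fl F n 0 0) a) = 1 := by
  rw [card_fl_zero, Nat.card_eq_one_iff_unique]
  refine ⟨⟨fun W U => ?_⟩, ⟨⟨⟨⊥, finrank_bot F _⟩, ?_⟩⟩⟩
  · apply Subtype.ext
    apply Subtype.ext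
    rw [Submodule.finrank_eq_zero.1 W.1.2, Submodule.finrank_eq_zero.1 U.1.2]
  · exact Submodule.finrank_eq_zero.1 ((finrank_latf a.2 ⊥).trans (finrank_bot F _))

/-- a flag `U ≤ U` is a subspace -/
theorem card_fl_self [Finite F] (k : ℕ) (a : A0 F n) :
    Nat.card (MulAction.fixedBy (Fl F n k k) a) = Nat.card (MulAction.fixedBy (Fl F n 0 k) a) := by
  rw [card_fl_zero]
  have hs : ∀ x : Fl F n k k, x.1.1 = x.1.2 := fun x =>
    Subtype.ext (Submodule.eq_of_le_of_finrank_eq x.2 (x.1.1.2.trans x.1.2.2.symm))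
  refine Nat.card_congr ⟨fun x => ⟨x.1.1.2, ?_⟩, fun W => ⟨⟨(W.1, W.1), le_rfl⟩, ?_⟩, fun x => ?_, fun W => rfl⟩
  · have h1 := congrArg (fun y : Fl F n k k => y.1.2.1) x.2
    exact h1
  · apply Subtype.ext
    exact Prod.ext (Subtype.ext W.2) (Subtype.ext W.2)
  · apply Subtype.ext
    apply Subtype.ext
    exact Prod.ext (hs x.1).symm rfl

end Cfsg.Agent.H99.CY
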