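import Cfsg.Agent.H829.BR.Cnt
import Cfsg.Agent.H199.PslAut

/-!
# S4829, `PSL_n(q)`, `p ∤ q (q - 1)`: semilinear maps centralizing a Sylow `p`-subgroup (helper99)

* `stable_semi` : `f` additive, commuting with the Sylow subgroup `P` of `SL_n(F)`, `W` `P`-invariant with
  `W ⊓ C_V(P) = 0` or `C_V(P) ≤ W`: `f W ≤ W`;
* `comm_semi` : if `Psi g * phi σ` centralizes the image of `P` in `PSL_n(F)` then `v ↦ g (σ v)` commutes with `P`;
* `triv_semi` : for `d = ord_p(q)`, `k % d = 0` or `n % d ≤ k % d`, the type preserving automorphisms centralizing a Sylow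
  `p`-subgroup `Q` of `PSL_n(F)` fix all `Q`-fixed `k`-spaces;
* `exists_two` : the two rows `(n - k, k)` of the witness: `k = n % d + 1` or `k = 2 d`.
-/

set_option autoImplicit false
set_option linter.unusedSectionVars false

open Matrix Module Subgroup

namespace Cfsg.Agent.H99.CY

open Cfsg.Agent.ClassicalGeometry.AutPSL.Root Cfsg.Agent.ClassicalGeometry.AutPSL.Auto
open Cfsg.Agent.ClassicalGeometry.AutPSL.Main Cfsg.Agent.H199.PslAut
open Cfsg.Agent.H932.BR (Om) 
open Cfsg.Agent.H829.BR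

universe u

variable {p : ℕ} [hp : Fact p.Prime] {F : Type u} [Field F] [Fintype F] {n : ℕ}

section semi

variable (P : Sylow p (Matrix.SpecialLinearGroup (Fin n) F))

/-- an additive map centralizing `P` maps `W` into `W + C_V(P)` -/
theorem sub_mem_fix_semi (hpF : (p : F) ≠ 0) (hq : ¬ p ∣ Fintype.card F - 1) {W : Submodule F (Fin n → F)}
    (hW : ∀ x ∈ (P : Subgroup (Matrix.SpecialLinearGroup (Fin n) F)), ∀ w ∈ W, rho F n x w ∈ W)
    {f : (Fin n → F) →+ (Fin n → F)}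
    (hf : ∀ x ∈ (P : Subgroup (Matrix.SpecialLinearGroup (Fin n) F)), ∀ v, f (rho F n x v) = rho F n x (f v))
    {w : Fin n → F} (hw : w ∈ W) : ∃ w' ∈ W, f w - w' ∈ fixV (P : Subgroup (Matrix.SpecialLinearGroup (Fin n) F)) := by
  obtain ⟨e, h1, h2, h3, h4⟩ := exists_proj P hpF W hW
  refine ⟨e (f w), h1 _, ?_⟩
  rw [mem_fixV]
  intro x hx
  obtain ⟨y, hy, hy'⟩ := block_mem P hq h3 h4 hx
  have h5 := hf y hy w
  rw [hy'] at h5
  have h6 : (rho F n x * e + (1 - e)) w = rho F n x (e w) + (w - e w) := rfl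
  have h7 : (rho F n x * e + (1 - e)) (f w) = rho F n x (e (f w)) + (f w - e (f w)) := rfl
  rw [h6, h7, h2 w hw, sub_self, add_zero, hf x hx] at h5
  rw [map_sub, h5]
  abel

/-- **additive maps centralizing `P`** -/
theorem stable_semi (hpF : (p : F) ≠ 0) (hq : ¬ p ∣ Fintype.card F - 1) {W : Submodule F (Fin n → F)}
    (hW : ∀ x ∈ (P : Subgroup (Matrix.SpecialLinearGroup (Fin n) F)), ∀ w ∈ W, rho F n x w ∈ W)
    (h0 : W ⊓ fixV (P : Subgroup (Matrix.SpecialLinearGroup (Fin n) F)) = ⊥ ∨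
      fixV (P : Subgroup (Matrix.SpecialLinearGroup (Fin n) F)) ≤ W) {f : (Fin n → F) →+ (Fin n → F)}
    (hf : ∀ x ∈ (P : Subgroup (Matrix.SpecialLinearGroup (Fin n) F)), ∀ v, f (rho F n x v) = rho F n x (f v))
    {w : Fin n → F} (hw : w ∈ W) : f w ∈ W := by
  rcases h0 with h0 | h0
  · classical
    have : Fintype (P : Subgroup (Matrix.SpecialLinearGroup (Fin n) F)) := Fintype.ofFinite _
    have hcard := card_ne P hpF
    have hsum : (∑ x : (P : Subgroup (Matrix.SpecialLinearGroup (Fin n) F)), rho F n x w) = 0 := by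
      have h5 : (∑ x : (P : Subgroup (Matrix.SpecialLinearGroup (Fin n) F)), rho F n x w) ∈
          W ⊓ fixV (P : Subgroup (Matrix.SpecialLinearGroup (Fin n) F)) := by
        refine ⟨W.sum_mem fun x _ => hW x x.2 w hw, fun y hy => ?_⟩
        rw [map_sum]
        refine Fintype.sum_equiv (Equiv.mulLeft (⟨y, hy⟩ : (P : Subgroup (Matrix.SpecialLinearGroup (Fin n) F)))) _ _
          fun x => ?_
        exact (rho_mul y x w).symm
      rw [h0] at h5
      exact (Submodule.mem_bot F).1 h5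
    have hw' : (Nat.card (P : Subgroup (Matrix.SpecialLinearGroup (Fin n) F))) • w =
        ∑ x : (P : Subgroup (Matrix.SpecialLinearGroup (Fin n) F)), (w - rho F n x w) := by
      rw [Finset.sum_sub_distrib, hsum, sub_zero, Finset.sum_const, Finset.card_univ, ← Nat.card_eq_fintype_card]
    have h6 : (Nat.card (P : Subgroup (Matrix.SpecialLinearGroup (Fin n) F)) : F) • f w ∈ W := by
      rw [Nat.cast_smul_eq_nsmul F, ← map_nsmul, hw', map_sum]
      refine W.sum_mem fun x _ => ?_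
      rw [map_sub, hf x x.2]
      obtain ⟨w', hw1, hw2⟩ := sub_mem_fix_semi P hpF hq hW hf hw
      have h7 := hw2 x x.2
      rw [map_sub] at h7
      have h8 : f w - rho F n x (f w) = w' - rho F n x w' := by
        have h9 : rho F n x (f w) = f w - w' + rho F n x w' := by rw [← h7]; abel
        rw [h9]
        abel
      rw [h8]
      exact W.sub_mem hw1 (hW x x.2 _ hw1)
    have h7 := W.smul_mem (Nat.card (P : Subgroup (Matrix.SpecialLinearGroup (Fin n) F)) : F)⁻¹ h6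
    rwa [smul_smul, inv_mul_cancel₀ hcard, one_smul] at h7
  · obtain ⟨w', hw1, hw2⟩ := sub_mem_fix_semi P hpF hq hW hf hw
    have h5 := W.add_mem (h0 hw2) hw1
    rwa [sub_add_cancel] at h5

/-- the semilinear map `v ↦ g (σ v)` -/
def sem (g : GL (Fin n) F) (σ : F ≃+* F) : (Fin n → F) →+ (Fin n → F) where
  toFun v := (g : Matrix (Fin n) (Fin n) F) *ᵥ fun i => σ (v i)
  map_zero' := by
    have : (fun i : Fin n => σ ((0 : Fin n → F) i)) = 0 := funext fun i => map_zero σ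
    rw [this, Matrix.mulVec_zero]
  map_add' v w := by
    rw [← Matrix.mulVec_add]
    congr 1
    funext i
    exact map_add _ _ _

theorem sem_apply (g : GL (Fin n) F) (σ : F ≃+* F) (v : Fin n → F) :
    sem g σ v = (g : Matrix (Fin n) (Fin n) F) *ᵥ fun i => σ (v i) := rfl

/-- `p`-elements up to scalars -/
theorem eq_of_smul (hn : 0 < n) (h : ¬ p ∣ Fintype.card F - 1 ∨ ¬ p ∣ n) {x y : Matrix.SpecialLinearGroup (Fin n) F} {m : ℕ}
    (hx : x ^ p ^ m = 1) (hy : y ^ p ^ m = 1) (e : pr y = pr x) : y = x := by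
  have h2 : x⁻¹ * y ∈ center (Matrix.SpecialLinearGroup (Fin n) F) := QuotientGroup.eq.1 e.symm
  set z := x⁻¹ * y with hz
  have h4 : y = x * z := by rw [hz, mul_inv_cancel_left]
  have h5 : z ^ p ^ m = 1 := by
    have h7 : Commute x z := mem_center_iff.1 h2 x
    rw [h4, h7.mul_pow, hx, one_mul] at hy
    exact hy
  have h6 : z = 1 := by
    obtain ⟨r, hr, hr'⟩ := Matrix.SpecialLinearGroup.mem_center_iff.1 h2
    rw [Fintype.card_fin] at hr
    have h7 : r ^ p ^ m = 1 := by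
      have h8 := congrArg (fun y : Matrix.SpecialLinearGroup (Fin n) F =>
        (y : Matrix (Fin n) (Fin n) F) ⟨0, hn⟩ ⟨0, hn⟩) h5
      simp only [Matrix.SpecialLinearGroup.coe_pow, Matrix.SpecialLinearGroup.coe_one] at h8
      rw [← hr', ← map_pow, Matrix.scalar_apply, Matrix.diagonal_apply_eq, Matrix.one_apply_eq] at h8
      exact h8
    have hr0 : r ≠ 0 := by
      intro h
      rw [h, zero_pow (pow_pos hp.out.pos m).ne'] at h7
      exact zero_ne_one h7
    have h8 : r = 1 := by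
      have hord : orderOf r ∣ p ^ m := orderOf_dvd_of_pow_eq_one h7
      have hone : ∀ b : ℕ, ¬ p ∣ b → r ^ b = 1 → r = 1 := by
        intro b hb hrb
        have h9 : orderOf r ∣ (p ^ m).gcd b := Nat.dvd_gcd hord (orderOf_dvd_of_pow_eq_one hrb)
        rw [Nat.Coprime.pow_left m ((Nat.Prime.coprime_iff_not_dvd hp.out).2 hb)] at h9
        exact orderOf_eq_one_iff.1 (Nat.dvd_one.1 h9)
      rcases h with h | h
      · exact hone _ h (FiniteField.pow_card_sub_one_eq_one _ hr0)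
      · exact hone _ h hr
    apply Subtype.ext
    rw [← hr', h8, map_one]
    rfl
  rw [h4, h6, mul_one]

/-- **the semilinear map of an automorphism centralizing `P` commutes with `P`** -/
theorem comm_semi (hn : 0 < n) (h : ¬ p ∣ Fintype.card F - 1 ∨ ¬ p ∣ n) {g : GL (Fin n) F} {σ : F ≃+* F}
    {x : Matrix.SpecialLinearGroup (Fin n) F} (hx : x ∈ (P : Subgroup (Matrix.SpecialLinearGroup (Fin n) F)))
    (ha : (Psi n F g * phi n F σ) (pr x) = pr x) (v : Fin n → F) :
    sem g σ (rho F n x v) = rho F n x (sem g σ v) := by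
  obtain ⟨m, hm⟩ := P.isPGroup' ⟨x, hx⟩
  have hxm : x ^ p ^ m = 1 := congrArg Subtype.val hm
  have h1 : cj g (fld σ x) = x := by
    refine eq_of_smul hn h hxm ?_ ha
    rw [← map_pow, ← map_pow, hxm, map_one, map_one]
  have h2 : (g : Matrix (Fin n) (Fin n) F) * (x : Matrix (Fin n) (Fin n) F).map σ =
      (x : Matrix (Fin n) (Fin n) F) * (g : Matrix (Fin n) (Fin n) F) := by
    have h3 : (g : Matrix (Fin n) (Fin n) F) * (x : Matrix (Fin n) (Fin n) F).map σ *
        ((g⁻¹ : GL (Fin n) F) : Matrix (Fin n) (Fin n) F) = (x : Matrix (Fin n) (Fin n) F) := by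
      have h4 := congrArg (fun y : Matrix.SpecialLinearGroup (Fin n) F => (y : Matrix (Fin n) (Fin n) F)) h1
      exact h4
    rw [← h3, mul_assoc ((g : Matrix (Fin n) (Fin n) F) * _), ← Units.val_mul, inv_mul_cancel, Units.val_one, mul_one, h3]
  rw [rho_apply, rho_apply, sem_apply, sem_apply, Matrix.mulVec_mulVec, ← h2, ← Matrix.mulVec_mulVec]
  congr 1
  funext i
  simp only [Matrix.mulVec, dotProduct, Matrix.map_apply]
  rw [map_sum]
  exact Finset.sum_congr rfl fun j _ => map_mul _ _ _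

end semi

local notation "𝔡" => orderOf (Fintype.card F : ZMod p)

/-- **the type preserving automorphisms centralizing `Q` fix the `Q`-fixed `k`-spaces** -/
theorem triv_semi (hn : 0 < n) (hpF : (p : F) ≠ 0) (hq : ¬ p ∣ Fintype.card F - 1) {k : ℕ}
    (hk : k % 𝔡 = 0 ∨ n % 𝔡 ≤ k % 𝔡) (Q : Sylow p (ProjectiveSpecialLinearGroup (Fin n) F)) (W : Om F n k)
    (hW : ∀ x ∈ Q, x • W = W) {g : GL (Fin n) F} {σ : F ≃+* F} (ha : ∀ x ∈ Q, (Psi n F g * phi n F σ) x = x)
    {w : Fin n → F} (hw : w ∈ W.1) : sem g σ w ∈ W.1 := by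
  obtain ⟨P, rfl⟩ : ∃ P : Sylow p (Matrix.SpecialLinearGroup (Fin n) F), bar P = Q :=
    Sylow.mapSurjective_surjective (QuotientGroup.mk'_surjective _) p Q
  have h1 := (fixed_iff P W).1 hW
  have h2 := finrank_mod P.isPGroup' hpF h1
  have h3 := finrank_fix P hpF hq
  have h4 := finrank_fix_lt P hpF hq
  have h5 : finrank F (W.1 ⊓ fixV (P : Subgroup (Matrix.SpecialLinearGroup (Fin n) F)) : Submodule F (Fin n → F)) ≤
      finrank F (fixV (P : Subgroup (Matrix.SpecialLinearGroup (Fin n) F))) := Submodule.finrank_mono inf_le_right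
  rw [W.2] at h2
  have h6 : finrank F (W.1 ⊓ fixV (P : Subgroup (Matrix.SpecialLinearGroup (Fin n) F)) :
      Submodule F (Fin n → F)) = k % 𝔡 := by
    rw [← Nat.mod_eq_of_lt (lt_of_le_of_lt h5 h4)]
    exact h2.symm
  refine stable_semi P hpF hq h1 ?_ (fun x hx v => comm_semi P hn (Or.inl hq) hx (ha _ ((mem_bar P).2 ⟨x, hx, rfl⟩)) v) hw
  rcases hk with hk | hk
  · left
    rw [hk] at h6
    exact Submodule.finrank_eq_zero.1 h6
  · right
    have h7 : W.1 ⊓ fixV (P : Subgroup (Matrix.SpecialLinearGroup (Fin n) F)) =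
        fixV (P : Subgroup (Matrix.SpecialLinearGroup (Fin n) F)) :=
      Submodule.eq_of_le_of_finrank_eq inf_le_right (by omega)
    exact inf_eq_right.1 h7

/-- the fixed points of a map commuting with `Q` and fixing the `Q`-fixed points -/
theorem card_fixed_modEq {G : Type*} [Group G] {Q : Subgroup G} (hQ : IsPGroup p Q) {X : Type*} [Finite X] [MulAction G X]
    (f : X → X) (hf : ∀ x ∈ Q, ∀ w, f (x • w) = x • f w) (ht : ∀ w, (∀ x ∈ Q, x • w = w) → f w = w) :
    Nat.card {w // f w = w} ≡ Nat.card X [MOD p] := by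
  let _ : MulAction Q {w // f w = w} :=
    { smul := fun x w => ⟨(x : G) • w.1, by rw [hf x x.2, w.2]⟩
      one_smul := fun w => Subtype.ext (one_smul G w.1)
      mul_smul := fun x y w => Subtype.ext (mul_smul (x : G) (y : G) w.1) }
  have h1 := hQ.card_modEq_card_fixedPoints (α := {w // f w = w})
  have h2 := hQ.card_modEq_card_fixedPoints (α := X)
  refine h1.trans (Nat.ModEq.trans ?_ h2.symm)
  have h3 : Nat.card (MulAction.fixedPoints Q {w // f w = w}) = Nat.card (MulAction.fixedPoints Q X) := by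
    refine Nat.card_congr ⟨fun w => ⟨w.1.1, fun x => congrArg Subtype.val (w.2 x)⟩,
      fun w => ⟨⟨w.1, ht _ fun x hx => w.2 ⟨x, hx⟩⟩, fun x => Subtype.ext (w.2 x)⟩, fun w => rfl, fun w => rfl⟩
  rw [h3]

section num

theorem NN_low_eq (hpF : (p : F) ≠ 0) (hq : ¬ p ∣ Fintype.card F - 1) : (NN F n (n % 𝔡) : ZMod p) = 1 := by
  let P : Sylow p (Matrix.SpecialLinearGroup (Fin n) F) := default
  have h0 := order_pos (p := p) (F := F) hpF
  have h1 := (bar P).isPGroup'.card_modEq_card_fixedPoints (α := Om F n (n % 𝔡))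
  have h2 : Nat.card (MulAction.fixedPoints (bar P : Subgroup (ProjectiveSpecialLinearGroup (Fin n) F))
      (Om F n (n % 𝔡))) = 1 := by
    have h3 := finrank_fix P hpF hq
    have key : ∀ W : Om F n (n % 𝔡), (∀ g ∈ (bar P : Subgroup (ProjectiveSpecialLinearGroup (Fin n) F)), g • W = W) →
        W.1 = fixV (P : Subgroup (Matrix.SpecialLinearGroup (Fin n) F)) := by
      intro W hW
      have h4 := finrank_mod P.isPGroup' hpF ((fixed_iff P W).1 hW)
      have h5 : finrank F (W.1 ⊓ fixV (P : Subgroup (Matrix.SpecialLinearGroup (Fin n) F)) : Submodule F (Fin n → F)) ≤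
          finrank F (fixV (P : Subgroup (Matrix.SpecialLinearGroup (Fin n) F))) := Submodule.finrank_mono inf_le_right
      have h6 := finrank_fix_lt P hpF hq
      rw [W.2] at h4
      have h7 : finrank F (W.1 ⊓ fixV (P : Subgroup (Matrix.SpecialLinearGroup (Fin n) F)) :
          Submodule F (Fin n → F)) = n % 𝔡 :=
        (Nat.mod_eq_of_lt (lt_of_le_of_lt h5 h6)).symm.trans (h4.symm.trans (Nat.mod_mod n 𝔡))
      have h8 : W.1 ⊓ fixV (P : Subgroup (Matrix.SpecialLinearGroup (Fin n) F)) = W.1 :=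
        Submodule.eq_of_le_of_finrank_eq inf_le_left (by rw [h7, W.2])
      exact Submodule.eq_of_le_of_finrank_eq (inf_eq_left.1 h8) (by rw [W.2, h3])
    have hfix : ∀ g ∈ (bar P : Subgroup (ProjectiveSpecialLinearGroup (Fin n) F)),
        g • (⟨fixV (P : Subgroup (Matrix.SpecialLinearGroup (Fin n) F)), h3⟩ : Om F n (n % 𝔡)) = ⟨_, h3⟩ :=
      (fixed_iff P ⟨_, h3⟩).2 fun x hx w hw => by rw [hw x hx]; exact hw
    rw [Nat.card_eq_one_iff_unique]
    refine ⟨⟨fun W U => ?_⟩, ⟨⟨⟨_, h3⟩, fun g => hfix g g.2⟩⟩⟩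
    apply Subtype.ext
    apply Subtype.ext
    rw [key W.1 fun g hg => W.2 ⟨g, hg⟩, key U.1 fun g hg => U.2 ⟨g, hg⟩]
  rw [h2] at h1
  have h3 := (ZMod.natCast_eq_natCast_iff _ _ p).2 h1
  rw [Nat.cast_one] at h3
  exact h3

theorem NN_add (hr : n % 𝔡 + 1 = 𝔡) (ha : 1 ≤ n / 𝔡) {j : ℕ} (hj : j < 𝔡) :
    (NN F n (𝔡 + j) : ZMod p) = NN F n 𝔡 * NN F n j := by
  have hdiv := Nat.mod_add_div n 𝔡
  obtain ⟨b, hb⟩ : ∃ b, n / 𝔡 = b + 1 := ⟨n / 𝔡 - 1, by omega⟩
  rw [hb, mul_add, mul_one] at hdiv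
  have hd1 : ((Fintype.card F : ZMod p)) ^ 𝔡 = 1 := pow_orderOf_eq_one _
  induction j with
  | zero => rw [add_zero, NN_zero, Nat.cast_one, mul_one]
  | succ j ih =>
    have h1 := NNz_succ (p := p) (F := F) (n := n) (k := 𝔡 + j) (by omega)
    have h2 := NNz_succ (p := p) (F := F) (n := n) (k := j) (by omega)
    have e1 : n - (𝔡 + j) = 𝔡 - 1 - j + 𝔡 * b := by omega
    have e2 : n - j = 𝔡 - 1 - j + 𝔡 * (b + 1) := by rw [mul_add, mul_one]; omega
    have h3 : ∀ m c : ℕ, (Fintype.card F : ZMod p) ^ (m + 𝔡 * c) = (Fintype.card F : ZMod p) ^ m := by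
      intro m c
      rw [pow_add, pow_mul, hd1, one_pow, mul_one]
    have e3 : (Fintype.card F : ZMod p) ^ (𝔡 + j + 1) = (Fintype.card F : ZMod p) ^ (j + 1) := by
      have := h3 (j + 1) 1
      rw [mul_one, add_comm, ← add_assoc] at this
      exact this
    rw [e1, h3, e3, ih (by omega)] at h1
    rw [e2, h3] at h2
    have h4 : (Fintype.card F : ZMod p) ^ (j + 1) - 1 ≠ 0 := by
      intro h
      have h5 := Nat.le_of_dvd (by omega) ((pow_sub_one_eq_zero (F := F) (p := p) _).1 h)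
      omega
    apply mul_right_cancel₀ h4
    rw [add_assoc] at h1
    rw [h1, mul_assoc, mul_assoc, h2]

/-- **the numbers for `n = a d + (d - 1)`** -/
theorem NN_vals (hp2 : p ≠ 2) (hpF : (p : F) ≠ 0) (hq : ¬ p ∣ Fintype.card F - 1) (hr : n % 𝔡 + 1 = 𝔡)
    (ha : 1 ≤ n / 𝔡) : (NN F n 𝔡 : ZMod p) = (n / 𝔡 : ℕ) ∧ (NN F n (2 * 𝔡 - 1) : ZMod p) = (n / 𝔡 : ℕ) ∧
      (2 ≤ n / 𝔡 → (NN F n (2 * 𝔡) : ZMod p) = ((n / 𝔡).choose 2 : ℕ)) := by
  have h0 := order_pos (p := p) (F := F) hpF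
  have hdiv := Nat.mod_add_div n 𝔡
  have hlow := NN_low_eq (n := n) hpF hq
  have hdn : 𝔡 ≤ 𝔡 * (n / 𝔡) := Nat.le_mul_of_pos_right _ (by omega)
  have e1 : (NN F n 𝔡 : ZMod p) = (n / 𝔡 : ℕ) := by
    have h1 := NN_step (p := p) (F := F) (n := n) (b := 1) (c := n / 𝔡) h0 one_pos (by omega) (by
      rw [one_mul, mul_comm (n / 𝔡)]; omega)
    rw [one_mul, Nat.cast_one, mul_one] at h1
    have h2 : 𝔡 - 1 = n % 𝔡 := by omega
    rw [h1, h2, hlow, one_mul]
  have e2 : (NN F n (2 * 𝔡 - 1) : ZMod p) = (n / 𝔡 : ℕ) := by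
    have h1 := NN_add (n := n) hr ha (j := n % 𝔡) (by omega)
    have h2 : 𝔡 + n % 𝔡 = 2 * 𝔡 - 1 := by omega
    rw [h2, hlow, mul_one, e1] at h1
    exact h1
  refine ⟨e1, e2, fun ha2 => ?_⟩
  obtain ⟨b, hb⟩ : ∃ b, n / 𝔡 = b + 2 := ⟨n / 𝔡 - 2, by omega⟩
  have hm : 𝔡 * (b + 2) = 𝔡 * b + 2 * 𝔡 := by ring
  rw [hb] at hdiv
  have h1 := NN_step (p := p) (F := F) (n := n) (b := 2) (c := b + 1) h0 two_pos (by omega) (by
    have : (b + 1) * 𝔡 = 𝔡 * b + 𝔡 := by ring
    omega)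
  have h20 : ((2 : ℕ) : ZMod p) ≠ 0 := by
    intro h
    rw [ZMod.natCast_eq_zero_iff] at h
    exact hp2 ((Nat.prime_dvd_prime_iff_eq hp.out Nat.prime_two).1 h)
  apply mul_right_cancel₀ h20
  rw [h1, e2, hb, ← Nat.cast_mul, ← Nat.cast_mul]
  congr 1
  have h3 := Nat.choose_two_right (b + 2)
  have h4 : 2 ∣ (b + 2) * (b + 2 - 1) := even_iff_two_dvd.1 (Nat.even_mul_pred_self (b + 2))
  rw [h3, Nat.div_mul_cancel h4]
  congr 1

end num

end Cfsg.Agent.H99.CY
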