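import Cfsg.Agent.H99.CY.Cent
import Cfsg.Agent.H666.CY.PslLat

/-!
# S4829, `PSL_n(q)`, `d = ord_p(q) ≥ 2`: the number of `k`-spaces fixed by `a` (helper99)

`a` type preserving, centralizing a Sylow `p`-subgroup `Q` of `PSL_n(F)`:
* `latf_fix` : `a` fixes every `Q`-fixed `k`-space, `k % d = 0` or `n % d ≤ k % d`;
* `card_latf` : the number of `a`-fixed `k`-spaces is `[n choose k]_q` modulo `p`;
* `vals` : the values `a_`, `a_`, `choose a_ 2` for `k = d, 2 d - 1, 2 d`, `n = a_ d + d - 1`.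
-/

set_option autoImplicit false
set_option linter.unusedSectionVars false

open Matrix Module Subgroup

namespace Cfsg.Agent.H99.CY

open Cfsg.Agent.ClassicalGeometry.AutPSL.Root Cfsg.Agent.H199.PslAut
open Cfsg.Agent.H932.BR (Om) 
open Cfsg.Agent.H829.BR
open Cfsg.Agent.H666.CY

universe u

variable {p : ℕ} [hp : Fact p.Prime] {F : Type u} [Field F] [Fintype F] {n : ℕ}

local notation "𝔡" => orderOf (Fintype.card F : ZMod p)

theorem latf_fix (hn : 2 ≤ n) (hpF : (p : F) ≠ 0) (hq : ¬ p ∣ Fintype.card F - 1) {k : ℕ}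
    (hk : k % 𝔡 = 0 ∨ n % 𝔡 ≤ k % 𝔡) (Q : Sylow p (ProjectiveSpecialLinearGroup (Fin n) F)) (W : Om F n k)
    (hW : ∀ x ∈ Q, x • W = W) {a : MulAut (ProjectiveSpecialLinearGroup (Fin n) F)} (ha : a ∈ A0 F n)
    (hc : ∀ x ∈ Q, a x = x) : latf a W.1 = W.1 := by
  obtain ⟨g, σ, rfl⟩ := exists_gs hn ha
  refine (Submodule.eq_of_le_of_finrank_eq ?_ ?_).symm
  · intro w hw
    rw [latf_gs hn]
    -- `w = g σ(u)`, and `v ↦ g σ(v)` is injective on the finite `W`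
    have h1 : ∀ u ∈ W.1, sem g σ u ∈ W.1 := fun u hu => triv_semi (by omega) hpF hq hk Q W hW hc hu
    have hinj : Function.Injective (fun u : W.1 => (⟨sem g σ u, h1 u u.2⟩ : W.1)) := by
      intro u v huv
      have h2 : sem g σ u = sem g σ v := congrArg Subtype.val huv
      apply Subtype.ext
      have h3 := congrArg (tinv g σ) h2
      have h4 : ∀ z : Fin n → F, tinv g σ (sem g σ z) = z := fun z => (tinv g σ).apply_symm_apply z
      rw [h4, h4] at h3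
      exact h3
    obtain ⟨u, hu⟩ := Finite.surjective_of_injective hinj ⟨w, hw⟩
    have h2 : sem g σ u = w := congrArg Subtype.val hu
    rw [← h2]
    exact apply_mem_gs.2 u.2
  · exact (finrank_latf ha W.1).symm

theorem sm_smul {k : ℕ} (s : Matrix.SpecialLinearGroup (Fin n) F) (W : Om F n k) :
    ((pr s : ProjectiveSpecialLinearGroup (Fin n) F) • W).1 = sm s W.1 := rfl

theorem card_latf (hn : 2 ≤ n) (hpF : (p : F) ≠ 0) (hq : ¬ p ∣ Fintype.card F - 1) {k : ℕ}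
    (hk : k % 𝔡 = 0 ∨ n % 𝔡 ≤ k % 𝔡) (Q : Sylow p (ProjectiveSpecialLinearGroup (Fin n) F))
    {a : MulAut (ProjectiveSpecialLinearGroup (Fin n) F)} (ha : a ∈ A0 F n) (hc : ∀ x ∈ Q, a x = x) :
    (Nat.card {W : Om F n k // latf a W.1 = W.1} : ZMod p) = NN F n k := by
  have h1 := card_fixed_modEq (p := p) (G := ProjectiveSpecialLinearGroup (Fin n) F) Q.isPGroup' (X := Om F n k)
    (fun W => ⟨latf a W.1, by rw [finrank_latf ha, W.2]⟩) (fun x hx W => ?_) (fun W hW => ?_)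
  · have h2 : Nat.card {W : Om F n k // latf a W.1 = W.1} = Nat.card {W : Om F n k //
        (⟨latf a W.1, by rw [finrank_latf ha, W.2]⟩ : Om F n k) = W} :=
      Nat.card_congr (Equiv.subtypeEquivRight fun W => ⟨fun h => Subtype.ext h, fun h => congrArg Subtype.val h⟩)
    rw [h2]
    exact (ZMod.natCast_eq_natCast_iff _ _ p).2 h1
  · obtain ⟨s, rfl⟩ := pr_surjective x
    apply Subtype.ext
    change latf a (sm s W.1) = sm s (latf a W.1)
    exact (latf_TP ha).comm s s (hc _ hx).symm W.1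
  · exact Subtype.ext (latf_fix hn hpF hq hk Q W hW ha hc)

/-- **the values, `n = a_ d + d - 1`** -/
theorem vals (hp2 : p ≠ 2) (hn : 2 ≤ n) (hpF : (p : F) ≠ 0) (hq : ¬ p ∣ Fintype.card F - 1) (hr : n % 𝔡 + 1 = 𝔡)
    (ha1 : 1 ≤ n / 𝔡) (Q : Sylow p (ProjectiveSpecialLinearGroup (Fin n) F))
    {a : MulAut (ProjectiveSpecialLinearGroup (Fin n) F)} (ha : a ∈ A0 F n) (hc : ∀ x ∈ Q, a x = x) :
    (Nat.card {W : Om F n (n % 𝔡) // latf a W.1 = W.1} : ZMod p) = 1 ∧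
    (Nat.card {W : Om F n 𝔡 // latf a W.1 = W.1} : ZMod p) = (n / 𝔡 : ℕ) ∧
    (Nat.card {W : Om F n (2 * 𝔡 - 1) // latf a W.1 = W.1} : ZMod p) = (n / 𝔡 : ℕ) ∧
    (Nat.card {W : Om F n (2 * 𝔡) // latf a W.1 = W.1} : ZMod p) = ((n / 𝔡).choose 2 : ℕ) := by
  obtain ⟨h1, h2, h3⟩ := NN_vals (n := n) hp2 hpF hq hr ha1
  have h0 := order_pos (p := p) (F := F) hpF
  refine ⟨?_, ?_, ?_, ?_⟩
  · rw [card_latf hn hpF hq (Or.inr (by rw [Nat.mod_mod])) Q ha hc, NN_low_eq hpF hq]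
  · rw [card_latf hn hpF hq (Or.inl (Nat.mod_self _)) Q ha hc, h1]
  · rw [card_latf hn hpF hq (Or.inr ?_) Q ha hc, h2]
    have h4 : 2 * 𝔡 - 1 = 𝔡 - 1 + 𝔡 := by omega
    rw [h4, Nat.add_mod_right, Nat.mod_eq_of_lt (by omega : 𝔡 - 1 < 𝔡)]
    omega
  · rcases Nat.lt_or_ge (n / 𝔡) 2 with h | h
    · have h4 : n / 𝔡 = 1 := by omega
      have h5 := Nat.mod_add_div n 𝔡
      rw [h4, mul_one] at h5
      have : IsEmpty {W : Om F n (2 * 𝔡) // latf a W.1 = W.1} := ⟨fun W => by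
        have h6 := Submodule.finrank_le W.1.1
        rw [W.1.2, finrank_fin_fun] at h6
        omega⟩
      rw [Nat.card_of_isEmpty, h4]
      rfl
    · rw [card_latf hn hpF hq (Or.inl (Nat.mul_mod_left _ _)) Q ha hc, h3 h]

/-- **the values, `n % d + 1 < d`** -/
theorem vals_low (hn : 2 ≤ n) (hpF : (p : F) ≠ 0) (hq : ¬ p ∣ Fintype.card F - 1) (hr : n % 𝔡 + 1 < 𝔡) (hdn : 𝔡 ≤ n)
    (Q : Sylow p (ProjectiveSpecialLinearGroup (Fin n) F))
    {a : MulAut (ProjectiveSpecialLinearGroup (Fin n) F)} (ha : a ∈ A0 F n) (hc : ∀ x ∈ Q, a x = x) :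
    (Nat.card {W : Om F n (n % 𝔡) // latf a W.1 = W.1} : ZMod p) = 1 ∧
    (Nat.card {W : Om F n (n % 𝔡 + 1) // latf a W.1 = W.1} : ZMod p) = 0 := by
  constructor
  · rw [card_latf hn hpF hq (Or.inr (by rw [Nat.mod_mod])) Q ha hc, NN_low_eq hpF hq]
  · rw [card_latf hn hpF hq (Or.inr (by rw [Nat.mod_eq_of_lt hr]; omega)) Q ha hc, NNz_zero hr hdn]

end Cfsg.Agent.H99.CY
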